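import Groth.Agent.KPush28.Basic
import Groth.Agent.FundLocal.SmoothImm
import Groth.Agent.CAlgH.RegularIdealLocal
import Groth.Agent.FSchLib.IdealSheaf

/-!
# Regular closed immersions and their base changes at the stalks
-/

set_option autoImplicit false
set_option backward.isDefEq.respectTransparency false
set_option linter.style.haveILetI false

universe u

open CategoryTheory CategoryTheory.Limits AlgebraicGeometry RingTheory.Sequence IsLocalRing Opposite TopologicalSpace

namespace Groth.Agent.KBC28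

open CAlgH.RegularIdealLocal

/-- `n` generators of an ideal generated by a regular sequence of length `n` form a regular sequence. -/
theorem isWeaklyRegular_of_card {A : Type u} [CommRing A] [IsLocalRing A] [IsNoetherianRing A] {J : Ideal A}
    (hJ : J ≤ maximalIdeal A) {rs : List A} (hrs : IsWeaklyRegular A rs) (hrsJ : Ideal.ofList rs = J)
    {c : ℕ} {g : Fin c → A} (hgJ : Ideal.span (Set.range g) = J) (hc : rs.length = c) :
    IsWeaklyRegular A (List.ofFn g) := by
  classical
  subst hc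
  refine isWeaklyRegular_of_indepMod hJ hrs hrsJ hgJ fun a ha => ?_
  let f := rs.get
  have hfJ : Ideal.span (Set.range f) = J := by rw [← ofList_ofFn, List.ofFn_get, hrsJ]
  have hf : IndepMod J f := hfJ ▸ indepMod_of_isQuasiRegular (S5802.result A rs.length f (by rwa [List.ofFn_get]))
    fun i => hJ (hfJ ▸ Ideal.subset_span ⟨i, rfl⟩)
  have hU : ∀ i, ∃ u : Fin rs.length → A, ∑ j, u j * f j = g i := fun i =>
    Ideal.mem_span_range_iff_exists_fun.mp (hfJ ▸ hgJ ▸ Ideal.subset_span ⟨i, rfl⟩)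
  have hV : ∀ j, ∃ v : Fin rs.length → A, ∑ i, v i * g i = f j := fun j =>
    Ideal.mem_span_range_iff_exists_fun.mp (hgJ ▸ hfJ ▸ Ideal.subset_span ⟨j, rfl⟩)
  choose U hU using hU
  choose V hV using hV
  let r := residue A
  have hVU : (Matrix.of fun j i => r (V j i)) * (Matrix.of fun i j => r (U i j)) = 1 := by
    ext j k
    have h0 : ∑ k, ((∑ i, V j i * U i k) - if j = k then 1 else 0) * f k = 0 := by
      simp only [sub_mul, Finset.sum_sub_distrib, Finset.sum_mul, mul_assoc]
      rw [Finset.sum_comm]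
      simp [← Finset.mul_sum, hU, hV]
    have h1 := hf _ (h0 ▸ zero_mem _) k
    rw [← residue_eq_zero_iff, map_sub, sub_eq_zero] at h1
    simpa [r, Matrix.mul_apply, Matrix.one_apply, apply_ite (residue A)] using h1
  have hUV := mul_eq_one_comm.1 hVU
  have hsum : ∑ i, a i * g i = ∑ j, (∑ i, a i * U i j) * f j := by
    simp only [← hU, Finset.mul_sum, Finset.sum_mul, mul_assoc]
    exact Finset.sum_comm
  have h2 := hf _ (hsum ▸ ha)
  intro i
  rw [← residue_eq_zero_iff]
  have h3 : Matrix.vecMul (fun i => r (a i)) (Matrix.of fun i j => r (U i j)) = 0 := by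
    funext j
    have := (residue_eq_zero_iff _).2 (h2 j)
    simpa [r, Matrix.vecMul, dotProduct] using this
  have h4 := congrArg (fun v => Matrix.vecMul v (Matrix.of fun j i => r (V j i))) h3
  rw [Matrix.vecMul_vecMul, hUV, Matrix.vecMul_one, Matrix.zero_vecMul] at h4
  exact congrFun h4 i

variable {X Y P M : Scheme.{u}}

/-- A regular sequence at the stalk, of length the rank of the conormal sheaf. -/
theorem exists_isRegular_ker_length (f : X ⟶ Y) (hf : Mor2.IsRegularClosedImmersion f) {d : ℕ}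
    (hC : FlatMod.IsFinLocFreeOfRank d (Omega.conormal f)) (x : X) :
    ∃ rs : List (Y.presheaf.stalk (f x)), rs.length = d ∧
      IsRegular (Y.presheaf.stalk (f x)) rs ∧ RingHom.ker (f.stalkMap x).hom = Ideal.ofList rs := by
  haveI := hf.1
  obtain ⟨U, hU, hz, rs, hrs, hker⟩ := hf.2 x
  rw [Scheme.Hom.ker_apply] at hker
  have hlen : rs.length = d := by
    obtain ⟨A, hxA, ⟨eA⟩⟩ := hC x
    obtain ⟨(W : X.Opens), hW, hxW, hle⟩ := Opens.isBasis_iff_nbhd.mp X.isBasis_affineOpens
      (show x ∈ f ⁻¹ᵁ U ⊓ A from ⟨hz, hxA⟩)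
    obtain ⟨b₁⟩ := FundLocal.exists_basis_conormal f hU hrs.toIsWeaklyRegular hker hW (hle.trans inf_le_left)
    obtain ⟨b₂⟩ := Props12.exists_basis_sections eA (hle.trans inf_le_right)
    haveI : Nontrivial Γ(X, W) := by
      haveI : Nonempty ((W : X.Opens).toScheme) := ⟨⟨x, hxW⟩⟩
      infer_instance
    have h := Fintype.card_congr (b₁.indexEquiv b₂)
    rwa [Fintype.card_fin, Fintype.card_fin] at h
  let := Y.presheaf.algebra_section_stalk ⟨f x, hz⟩
  have := hU.isLocalization_stalk ⟨f x, hz⟩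
  haveI : Module.Flat Γ(Y, U) (Y.presheaf.stalk (f x)) :=
    IsLocalization.flat _ (hU.primeIdealOf ⟨f x, hz⟩).asIdeal.primeCompl
  haveI : IsClosedImmersion (f ∣_ U) := IsZariskiLocalAtTarget.restrict ‹_› U
  have hw : IsWeaklyRegular (Y.presheaf.stalk (f x))
      (rs.map (Y.presheaf.germ U (f x) hz).hom) :=
    IsWeaklyRegular.of_flat (S := Y.presheaf.stalk (f x)) hrs.toIsWeaklyRegular
  have hk : RingHom.ker (f.stalkMap x).hom = Ideal.ofList (rs.map (Y.presheaf.germ U (f x) hz).hom) := by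
    rw [CAlgH.RegImmStalk.ker_stalkMap_eq f x hU hz, hker, Ideal.map_ofList]
  refine ⟨_, (List.length_map _).trans hlen, ⟨hw, ?_⟩, hk⟩
  rw [smul_eq_mul, Ideal.mul_top, ← hk]
  exact (RingHom.ker_ne_top _).symm

/-- The stalk of the direct image of a bundle, with the ideal of the immersion. -/
theorem push_stalk_shape [IsLocallyNoetherian M] (F : P ⟶ M) (hF : Mor2.IsRegularClosedImmersion F) {d : ℕ}
    (hC : FlatMod.IsFinLocFreeOfRank d (Omega.conormal F)) {E : P.Modules} (hE : FlatMod.IsFinLocFree E)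
    (m : M) (p : P) (hp : F p = m) :
    ∃ rs : List (M.presheaf.stalk m), rs.length = d ∧ IsWeaklyRegular (M.presheaf.stalk m) rs ∧
      (∀ (U : M.Opens) (hU : IsAffineOpen U) (h : m ∈ U),
        Ideal.ofList rs = (F.ker.ideal ⟨U, hU⟩).map (M.presheaf.germ U m h).hom) ∧
      ∃ n : ℕ, Nonempty (ResLF28.st m ((Scheme.Modules.pushforward F).obj E) ≅
        ModuleCat.of (M.presheaf.stalk m) (Fin n → M.presheaf.stalk m ⧸ Ideal.ofList rs)) := by
  subst hp
  haveI := hF.1
  haveI : IsLocallyNoetherian P := LocallyOfFiniteType.isLocallyNoetherian F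
  obtain ⟨rs, hlen, hrs, hker⟩ := exists_isRegular_ker_length F hF hC p
  refine ⟨rs, hlen, hrs.toIsWeaklyRegular, fun U hU h => ?_, ?_⟩
  · haveI : IsClosedImmersion (F ∣_ U) := IsZariskiLocalAtTarget.restrict ‹_› U
    rw [← hker, CAlgH.RegImmStalk.ker_stalkMap_eq F p hU h, Scheme.Hom.ker_apply]
  obtain ⟨e⟩ := FlatCx12.PushStalk.nonempty_stalkPushIso F p
  have hEq := CAlgH3.LocFreeFactor.isQCoh_of_finLocFree hE
  haveI : Module.Free (P.presheaf.stalk p) (E.presheaf.stalk p) := Props12.free_stalk_of_isFinLocFree E hE p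
  haveI : Module.Finite (P.presheaf.stalk p) (E.presheaf.stalk p) :=
    AssSch12.finite_stalk (Coherent.CohBC.isCoh_of_isFinLocFree hE) p
  let k := Module.finrank (P.presheaf.stalk p) (E.presheaf.stalk p)
  let b : (ResLF28.st p E : Type u) ≃ₗ[P.presheaf.stalk p] (Fin k → P.presheaf.stalk p) :=
    (Module.finBasis (P.presheaf.stalk p) (E.presheaf.stalk p)).equivFun
  let φ := (F.stalkMap p).hom
  let q : (M.presheaf.stalk (F p) ⧸ Ideal.ofList rs) ≃+* P.presheaf.stalk p :=
    (Ideal.quotEquivOfEq hker.symm).trans (RingHom.quotientKerEquivOfSurjective (F.stalkMap_surjective p))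
  let c : ((ModuleCat.restrictScalars φ).obj (ModuleCat.of (P.presheaf.stalk p) (Fin k → P.presheaf.stalk p))) ≅
      ModuleCat.of (M.presheaf.stalk (F p)) (Fin k → (M.presheaf.stalk (F p) ⧸ Ideal.ofList rs)) :=
    LinearEquiv.toModuleIso (({
      toFun := fun v i => q.symm (v i)
      invFun := fun v i => q (v i)
      left_inv := fun v => funext fun i => q.apply_symm_apply _
      right_inv := fun v => funext fun i => q.symm_apply_apply _
      map_add' := fun v w => funext fun i => map_add q.symm _ _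
      map_smul' := fun r v => funext fun i => by
        apply q.injective
        show q (q.symm (φ r * v i)) = q (Ideal.Quotient.mk _ r * q.symm (v i))
        refine (q.apply_symm_apply _).trans (Eq.trans ?_ (map_mul q _ _).symm)
        exact congrArg₂ (· * ·) rfl (q.apply_symm_apply _).symm } :
      ((ModuleCat.restrictScalars φ).obj (ModuleCat.of (P.presheaf.stalk p) (Fin k → P.presheaf.stalk p)) : Type u)
        ≃ₗ[M.presheaf.stalk (F p)] (Fin k → (M.presheaf.stalk (F p) ⧸ Ideal.ofList rs))))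
  exact ⟨k, ⟨e.app E ≪≫ (ModuleCat.restrictScalars φ).mapIso b.toModuleIso ≪≫ c⟩⟩

/-- In a transversal square the regular sequence of the immersion pulls back to a regular sequence. -/
theorem isWeaklyRegular_pull [IsLocallyNoetherian Y] {F : P ⟶ M} {φ : Y ⟶ M} {f : X ⟶ Y} {ψ : X ⟶ P}
    (hsq : IsPullback f ψ φ F) [IsClosedImmersion F] (hf : Mor2.IsRegularClosedImmersion f) {d : ℕ}
    (hcf : FlatMod.IsFinLocFreeOfRank d (Omega.conormal f)) (x : X)
    (rs : List (M.presheaf.stalk (φ (f x)))) (hlen : rs.length = d)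
    (hker : ∀ (U : M.Opens) (hU : IsAffineOpen U) (h : φ (f x) ∈ U),
      Ideal.ofList rs = (F.ker.ideal ⟨U, hU⟩).map (M.presheaf.germ U _ h).hom) :
    IsWeaklyRegular (Y.presheaf.stalk (f x)) (rs.map (φ.stalkMap (f x)).hom) := by
  haveI := hf.1
  obtain ⟨rs', hlen', hrs', hker'⟩ := exists_isRegular_ker_length f hf hcf x
  obtain ⟨U, hU, hxU, -⟩ := exists_isAffineOpen_mem_and_subset (x := φ (f x)) (U := (⊤ : M.Opens)) trivial
  obtain ⟨V, hV, hxV, hle⟩ := exists_isAffineOpen_mem_and_subset (x := f x) (U := φ ⁻¹ᵁ U) hxU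
  have e : V ≤ φ ⁻¹ᵁ U := hle
  haveI : IsClosedImmersion (f ∣_ V) := IsZariskiLocalAtTarget.restrict ‹_› V
  have hk : f.ker.ideal ⟨V, hV⟩ = (F.ker.ideal ⟨U, hU⟩).map (φ.appLE U V e).hom := by
    rw [← hsq.isoPullback_hom_fst, Scheme.Hom.ker_comp_of_isIso,
      Scheme.IdealSheafData.ker_fst_of_isClosedImmersion, FSchLib.ideal_comap_eq_map φ F.ker ⟨V, hV⟩ ⟨U, hU⟩ e]
  have hJ : Ideal.ofList (rs.map (φ.stalkMap (f x)).hom) = RingHom.ker (f.stalkMap x).hom := by
    rw [← Ideal.map_ofList, hker U hU hxU, CAlgH.RegImmStalk.ker_stalkMap_eq f x hV hxV, ← Scheme.Hom.ker_apply f ⟨V, hV⟩,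
      hk, Ideal.map_map, Ideal.map_map]
    congr 1
    exact RingHom.ext fun a => (Scheme.Hom.germ_stalkMap_apply φ U (f x) hxU a).trans
      (TopCat.Presheaf.germ_res_apply Y.presheaf (homOfLE e) (f x) hxV (φ.app U a)).symm
  let gs := rs.map (φ.stalkMap (f x)).hom
  have h := isWeaklyRegular_of_card (g := gs.get) (le_maximalIdeal (RingHom.ker_ne_top _))
    hrs'.toIsWeaklyRegular hker'.symm (by rw [← ofList_ofFn, List.ofFn_get, hJ])
    (hlen'.trans (hlen.symm.trans (List.length_map _).symm))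
  rwa [List.ofFn_get] at h

end Groth.Agent.KBC28
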