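import Groth.Agent.CommAlg4.TorRegular
import Groth.Agent.CycLib28.SerreTor
import Groth.Agent.CycLib28.TorBase
import Mathlib.RingTheory.Regular.Flat

/-!
# Tensoring a resolution of `(A/(rs))^n` with a module on which `rs` is regular
-/

set_option autoImplicit false
set_option backward.isDefEq.respectTransparency false
set_option linter.style.haveILetI false

universe u

open CategoryTheory CategoryTheory.Limits RingTheory.Sequence Function
open scoped TensorProduct

namespace Groth.Agent.KBC28

open CommAlg4.TorRegular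

variable {A : Type u} [CommRing A]

theorem mem_smul_top_of_smul_mem (I : Ideal A) (x : A) (hx : IsSMulRegular (A ⧸ I) x) (P : Type u) [AddCommGroup P]
    [Module A P] [Module.Flat A P] (z : P) (hz : x • z ∈ (I • ⊤ : Submodule A P)) :
    z ∈ (I • ⊤ : Submodule A P) := by
  rw [← mk_eq_zero_iff I] at hz ⊢
  rw [TensorProduct.tmul_smul] at hz
  refine Module.Flat.rTensor_preserves_injective_linearMap (M := P) (LinearMap.lsmul A (A ⧸ I) x) hx ?_
  rw [LinearMap.rTensor_tmul, map_zero, LinearMap.lsmul_apply, ← TensorProduct.smul_tmul', hz]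

variable (B : ModuleCat.{u} A)

theorem exk_of_weaklyRegular (Pr : ProjectiveResolution B) : ∀ rs : List A, IsWeaklyRegular A rs →
    IsWeaklyRegular B rs →
      Exk (P := fun i => Pr.complex.X i) (fun i => (Pr.complex.d (i + 1) i).hom) (Ideal.ofList rs) := by
  intro rs
  induction rs using List.reverseRecOn with
  | nil =>
    intro _ _ i z hz
    rw [Ideal.ofList_nil, Submodule.bot_smul, Submodule.mem_bot] at hz
    exact Submodule.mem_sup_left ((TorB16.exact_succ' Pr i z).1 hz)
  | append_singleton rs x ih =>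
    intro hA hB
    rw [isWeaklyRegular_append_iff, isWeaklyRegular_singleton_iff] at hA hB
    rw [Ideal.ofList_append, Ideal.ofList_singleton]
    have hxA : IsSMulRegular (A ⧸ Ideal.ofList rs) x := by
      have h := hA.2
      exact ((Submodule.quotEquivOfEq _ (Ideal.ofList rs) (by rw [smul_eq_mul, Ideal.mul_top])).isSMulRegular_congr x).1 h
    refine exk_step _ (Pr.π.f 0).hom _ x (fun i z => LinearMap.congr_fun
      (congrArg ModuleCat.Hom.hom (Pr.complex.d_comp_d (i + 2) (i + 1) i)) z) (TorB16.π_surjective Pr)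
      (LinearMap.exact_iff.1 (TorB16.π_exact Pr)) (fun i z hz => ?_) (fun m hm => ?_) (ih hA.1 hB.1)
    · haveI : Module.Flat A (Pr.complex.X i) := TorB16.flat_of_projective _
      exact mem_smul_top_of_smul_mem _ x hxA _ z hz
    · exact mem_of_isSMulRegular_on_quotient x hB.2 m hm
where
  mem_of_isSMulRegular_on_quotient {N : Submodule A B} (x : A) (h : IsSMulRegular (B ⧸ N) x) (m : B)
      (hm : x • m ∈ N) : m ∈ N := by
    rw [← Submodule.Quotient.mk_eq_zero] at hm ⊢
    exact h (show x • Submodule.Quotient.mk m = x • (0 : B ⧸ N) by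
      rw [smul_zero, ← Submodule.Quotient.mk_smul, hm])

theorem isZero_tens_quot (rs : List A) (hA : IsWeaklyRegular A rs) (hB : IsWeaklyRegular B rs) (q : ℕ) :
    IsZero (((HTor16.tens B).leftDerived (q + 1)).obj (ModuleCat.of A (A ⧸ Ideal.ofList rs))) := by
  let Pr := ProjectiveResolution.of B
  have h := (isZero_tor_iff (M := B) Pr (Ideal.ofList rs)).2 (exk_of_weaklyRegular B Pr rs hA hB) (q + 1) (by omega)
  obtain ⟨e⟩ := CycLib28.nonempty_tor_comm (q + 1) (ModuleCat.of A (A ⧸ Ideal.ofList rs)) B
  exact IsZero.of_iso h e.symm.toModuleIso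

/-- The tensor product with `B` of a resolution of `(A/(rs))^n` is exact in positive degrees. -/
theorem exactAt_tens (rs : List A) (hA : IsWeaklyRegular A rs) (hB : IsWeaklyRegular B rs) {n : ℕ}
    (C : ChainComplex (ModuleCat.{u} A) ℕ) (N : ModuleCat.{u} A)
    (π : C ⟶ (ChainComplex.single₀ (ModuleCat.{u} A)).obj N) [QuasiIso π] (hC : ∀ k, Projective (C.X k))
    (e : N ≅ ModuleCat.of A (Fin n → A ⧸ Ideal.ofList rs)) (i : ℕ) :
    (((HTor16.tens B).mapHomologicalComplex (ComplexShape.down ℕ)).obj C).ExactAt (i + 1) := by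
  let P : ProjectiveResolution N := { complex := C, projective := hC, π := π }
  rw [HomologicalComplex.exactAt_iff_isZero_homology]
  exact IsZero.of_iso ((CycLib28.isZero_tor_pi B _ i (isZero_tens_quot B rs hA hB i) n).of_iso
    (((HTor16.tens B).leftDerived (i + 1)).mapIso e)) (P.isoLeftDerivedObj (HTor16.tens B) (i + 1)).symm

end Groth.Agent.KBC28
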