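import Groth.Agent.KBC28.Local
import Groth.Agent.KBC28.TorVanish
import Groth.Agent.RelVALib.AffBaseChange
import Groth.Agent.ModStalk.Pullback
import Groth.Agent.DCat.ClosedPushD
import Groth.Agent.FlatMorAdm.LocFreeApps

/-!
# Pullback of a resolution of a direct image along a transversal square
-/

set_option autoImplicit false
set_option backward.isDefEq.respectTransparency false
set_option linter.style.haveILetI false

universe u

open CategoryTheory CategoryTheory.Limits AlgebraicGeometry RingTheory.Sequence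
open Groth.Agent.ResLF28

namespace Groth.Agent.KBC28

theorem exactAt_extendScalars {A S : Type u} [CommRing A] [CommRing S] (g : A →+* S) (rs : List A)
    (hA : IsWeaklyRegular A rs) (hS : IsWeaklyRegular S (rs.map g)) {n : ℕ}
    (C : ChainComplex (ModuleCat.{u} A) ℕ) (N : ModuleCat.{u} A)
    (π : C ⟶ (ChainComplex.single₀ (ModuleCat.{u} A)).obj N) [QuasiIso π] (hC : ∀ k, Projective (C.X k))
    (e : N ≅ ModuleCat.of A (Fin n → A ⧸ Ideal.ofList rs)) (i : ℕ) :
    (((ModuleCat.extendScalars g).mapHomologicalComplex (ComplexShape.down ℕ)).obj C).ExactAt (i + 1) := by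
  let B := (ModuleCat.restrictScalars g).obj (ModuleCat.of S S)
  have hB : IsWeaklyRegular B rs := by
    letI := g.toAlgebra
    exact (isWeaklyRegular_map_algebraMap_iff S S rs).1 hS
  have h := exactAt_tens B rs hA hB C N π hC e i
  rw [HomologicalComplex.exactAt_iff' _ (i + 2) (i + 1) i (by simp) (by simp),
    ShortComplex.moduleCat_exact_iff] at h ⊢
  exact h

variable {X Y P M : Scheme.{u}} {F : P ⟶ M} {φ : Y ⟶ M} {f : X ⟶ Y} {ψ : X ⟶ P}

theorem exactAt_pullback [IsLocallyNoetherian Y] [IsLocallyNoetherian M] (hsq : IsPullback f ψ φ F)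
    (hF : Mor2.IsRegularClosedImmersion F) (hf : Mor2.IsRegularClosedImmersion f) {d : ℕ}
    (hcF : FlatMod.IsFinLocFreeOfRank d (Omega.conormal F)) (hcf : FlatMod.IsFinLocFreeOfRank d (Omega.conormal f))
    {E : P.Modules} (hE : FlatMod.IsFinLocFree E) {n : ℕ} {L : ChainComplex M.Modules ℕ}
    {π : L ⟶ (ChainComplex.single₀ M.Modules).obj ((Scheme.Modules.pushforward F).obj E)}
    (hL : KRR.IsLFRes ((Scheme.Modules.pushforward F).obj E) n L π) (i : ℕ) :
    (((Scheme.Modules.pullback φ).mapHomologicalComplex (ComplexShape.down ℕ)).obj L).ExactAt (i + 1) := by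
  haveI := hF.1
  haveI := hL.quasiIso
  rw [HomologicalComplex.exactAt_iff_isZero_homology]
  refine ModStalk.isZero_of_stalks fun y => ?_
  let K := ((Scheme.Modules.pullback φ).mapHomologicalComplex (ComplexShape.down ℕ)).obj L
  let C := ((DerSch.stalkFunctor M (φ y)).mapHomologicalComplex (ComplexShape.down ℕ)).obj L
  refine IsZero.of_iso ?_ ((K.sc (i + 1)).mapHomologyIso (DerSch.stalkFunctor Y y)).symm
  let e : ((DerSch.stalkFunctor Y y).mapHomologicalComplex (ComplexShape.down ℕ)).obj K ≅
      ((ModuleCat.extendScalars (φ.stalkMap y).hom).mapHomologicalComplex (ComplexShape.down ℕ)).obj C :=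
    HomologicalComplex.Hom.isoOfComponents (fun k => (ModStalk.pullbackStalkIso φ y).app (L.X k))
      fun k l _ => ((ModStalk.pullbackStalkIso φ y).hom.naturality (L.d k l)).symm
  refine ((HomologicalComplex.exactAt_iff_isZero_homology _ _).1 ?_ : IsZero
    ((((DerSch.stalkFunctor Y y).mapHomologicalComplex (ComplexShape.down ℕ)).obj K).homology (i + 1)))
  refine HomologicalComplex.ExactAt.of_iso ?_ e.symm
  let π' := ((DerSch.stalkFunctor M (φ y)).mapHomologicalComplex (ComplexShape.down ℕ)).map π ≫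
    ((HomologicalComplex.singleMapHomologicalComplex (DerSch.stalkFunctor M (φ y)) (ComplexShape.down ℕ) 0).app
      ((Scheme.Modules.pushforward F).obj E)).hom
  haveI : QuasiIso π' := inferInstance
  have hC : ∀ k, Projective (C.X k) := fun k => by
    haveI := CAlgH3.LocFreeFactor.isQCoh_of_finLocFree (hL.finLocFree k)
    haveI : Module.Free (M.presheaf.stalk (φ y)) ((L.X k).presheaf.stalk (φ y)) :=
      Props12.free_stalk_of_isFinLocFree (L.X k) (hL.finLocFree k) (φ y)
    haveI : Module.Projective (M.presheaf.stalk (φ y)) (C.X k : Type u) :=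
      inferInstanceAs (Module.Projective (M.presheaf.stalk (φ y)) ((L.X k).presheaf.stalk (φ y)))
    exact (IsProjective.iff_projective (R := M.presheaf.stalk (φ y)) (C.X k)).1 inferInstance
  by_cases hm : φ y ∈ Set.range F.base
  · obtain ⟨p, hp⟩ := hm
    obtain ⟨x, hxy, -⟩ := exists_lift hsq y p hp.symm
    subst hxy
    obtain ⟨rs, hlen, hrs, hker, k, ⟨eN⟩⟩ := push_stalk_shape F hF hcF hE (φ (f x)) p hp
    exact exactAt_extendScalars _ rs hrs (isWeaklyRegular_pull hsq hf hcf x rs hlen hker) C _ π' hC eN i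
  · haveI := DCat.ClosedPush.subsingleton_stalk_push F E (φ y) hm
    exact exactAt_extendScalars (n := 0) _ [] (IsWeaklyRegular.nil _ _) (IsWeaklyRegular.nil _ _) C _ π' hC
      ((ModuleCat.isZero_of_subsingleton (st (φ y) ((Scheme.Modules.pushforward F).obj E))).iso
        (ModuleCat.isZero_of_subsingleton _)) i
where
  exists_lift {X Y P M : Scheme.{u}} {F : P ⟶ M} {φ : Y ⟶ M} {f : X ⟶ Y} {ψ : X ⟶ P}
      (hsq : IsPullback f ψ φ F) (y : Y) (p : P) (h : φ y = F p) : ∃ x : X, f x = y ∧ ψ x = p := by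
    obtain ⟨t, ht, ht'⟩ := Scheme.Pullback.exists_preimage_pullback (f := φ) (g := F) y p h
    refine ⟨hsq.isoPullback.inv t, ?_, ?_⟩
    · rw [← Scheme.Hom.comp_apply, hsq.isoPullback_inv_fst, ht]
    · rw [← Scheme.Hom.comp_apply, hsq.isoPullback_inv_snd, ht']

/-- The pullback of a resolution of `F_* E` resolves `f_* ψ^* E`. -/
theorem exists_isLFRes_pullback [IsLocallyNoetherian Y] [IsLocallyNoetherian M] (hsq : IsPullback f ψ φ F)
    (hF : Mor2.IsRegularClosedImmersion F) (hf : Mor2.IsRegularClosedImmersion f) {d : ℕ}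
    (hcF : FlatMod.IsFinLocFreeOfRank d (Omega.conormal F)) (hcf : FlatMod.IsFinLocFreeOfRank d (Omega.conormal f))
    {E : P.Modules} (hE : FlatMod.IsFinLocFree E) {n : ℕ} {L : ChainComplex M.Modules ℕ}
    {π : L ⟶ (ChainComplex.single₀ M.Modules).obj ((Scheme.Modules.pushforward F).obj E)}
    (hL : KRR.IsLFRes ((Scheme.Modules.pushforward F).obj E) n L π) :
    ∃ π' : ((Scheme.Modules.pullback φ).mapHomologicalComplex (ComplexShape.down ℕ)).obj L ⟶
        (ChainComplex.single₀ Y.Modules).obj
          ((Scheme.Modules.pushforward f).obj ((Scheme.Modules.pullback ψ).obj E)),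
      KRR.IsLFRes ((Scheme.Modules.pushforward f).obj ((Scheme.Modules.pullback ψ).obj E)) n
        (((Scheme.Modules.pullback φ).mapHomologicalComplex (ComplexShape.down ℕ)).obj L) π' := by
  haveI := hF.1
  haveI := CAlgH3.LocFreeFactor.isQCoh_of_finLocFree hE
  haveI := hL.quasiIso
  haveI : IsIso (RelVALib.bcHom hsq.flip E) := RelVALib.isIso_bcHom hsq.flip E
  obtain ⟨hex0, hepi⟩ := (ShortComplex.quasiIso_iff_of_zeros' _ (L.shape 0 0 (by simp)) (by rfl) (by rfl)).1
    ((ChainComplex.quasiIsoAt₀_iff π).1 inferInstance)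
  have hw : L.d 1 0 ≫ π.f 0 = 0 := by
    rw [← π.comm 1 0, HomologicalComplex.single_obj_d, comp_zero]
  have hmap : (ShortComplex.mk ((Scheme.Modules.pullback φ).map (L.d 1 0)) ((Scheme.Modules.pullback φ).map (π.f 0))
      (by rw [← Functor.map_comp, hw, Functor.map_zero])).Exact ∧
      Epi ((Scheme.Modules.pullback φ).map (π.f 0)) := by
    haveI := (Scheme.Modules.pullbackPushforwardAdjunction φ).leftAdjoint_preservesColimits
    have h : PreservesFiniteColimits (Scheme.Modules.pullback φ) := inferInstance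
    have h' := (Functor.preservesFiniteColimits_tfae (Scheme.Modules.pullback φ)).out 3 1
    exact h'.1 h
      (ShortComplex.mk (L.d 1 0) (π.f 0) hw) ⟨hex0, hepi⟩
  let K := ((Scheme.Modules.pullback φ).mapHomologicalComplex (ComplexShape.down ℕ)).obj L
  let a : K.X 0 ⟶ (Scheme.Modules.pushforward f).obj ((Scheme.Modules.pullback ψ).obj E) :=
    (Scheme.Modules.pullback φ).map (π.f 0) ≫ RelVALib.bcHom hsq.flip E
  have ha : K.d 1 0 ≫ a = 0 := by
    show (Scheme.Modules.pullback φ).map (L.d 1 0) ≫ (Scheme.Modules.pullback φ).map (π.f 0) ≫ _ = 0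
    rw [← Category.assoc, ← Functor.map_comp, hw, Functor.map_zero, zero_comp]
  refine ⟨(ChainComplex.toSingle₀Equiv _ _).symm ⟨a, ha⟩, fun k => FlatMorAdm.isFinLocFree_pullback φ (hL.finLocFree k),
    fun k hk => Functor.map_isZero _ (hL.isZero k hk), ⟨fun k => ?_⟩⟩
  cases k with
  | zero =>
    rw [ChainComplex.quasiIsoAt₀_iff, ShortComplex.quasiIso_iff_of_zeros']
    · refine (ShortComplex.exact_and_epi_g_iff_of_iso
        (S₂ := ShortComplex.mk ((Scheme.Modules.pullback φ).map (L.d 1 0)) ((Scheme.Modules.pullback φ).map (π.f 0))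
          (by rw [← Functor.map_comp, hw, Functor.map_zero])) ?_).2 hmap
      refine ShortComplex.isoMk (Iso.refl _) (Iso.refl _) (asIso (RelVALib.bcHom hsq.flip E)).symm ?_ ?_
      · dsimp
        simp
      · dsimp [a]
        simp
    all_goals first | rfl | exact K.shape 0 0 (by simp)
  | succ k =>
    rw [quasiIsoAt_iff_exactAt' _ _ (ChainComplex.exactAt_succ_single_obj _ _)]
    exact exactAt_pullback hsq hF hf hcF hcf hE hL k

end Groth.Agent.KBC28
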