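import Groth.Agent.KBC28.Base
import Groth.Agent.KPull28.Basic
import Groth.Agent.KPush28.Ops
import Groth.Agent.CAlgH.PicPunctCriteria

/-!
# Enough bundles on closed subschemes; pullback of one
-/

set_option autoImplicit false
set_option backward.isDefEq.respectTransparency false
set_option linter.style.haveILetI false

universe v u

open CategoryTheory CategoryTheory.Limits AlgebraicGeometry

namespace Groth.Agent.KBC28

theorem hasEnough_closed {Z X : Scheme.{u}} (i : Z ⟶ X) [IsClosedImmersion i] [IsLocallyNoetherian X]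
    (hX : KRR.HasEnoughLocFree X) : KRR.HasEnoughLocFree Z := fun F hF => by
  obtain ⟨E, p, hE, hp⟩ := hX _ (Coherent.isCoh_push_finite i hF)
  haveI := hp
  haveI := (Scheme.Modules.pullbackPushforwardAdjunction i).leftAdjoint_preservesColimits
  haveI : Epi ((Scheme.Modules.pullback i).map p) :=
    haveI : (Scheme.Modules.pullback i).PreservesEpimorphisms := preservesEpimorphisms_of_preservesColimitsOfShape _
    inferInstance
  exact ⟨(Scheme.Modules.pullback i).obj E,
    (Scheme.Modules.pullback i).map p ≫ (Scheme.Modules.pullbackPushforwardAdjunction i).counit.app F,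
    FlatMorAdm.isFinLocFree_pullback i hE, epi_comp _ _⟩

theorem isPull_one {X Y : Scheme.{u}} (f : X ⟶ Y) {KX KY : Type v} [CommRing KX] [LambdaRing.LambdaOps KX]
    [CommRing KY] [LambdaRing.LambdaOps KY] {PX : LambdaRing.PosStructure KX} {PY : LambdaRing.PosStructure KY}
    {φX : SGA6.Kvb X →+ KX} {φY : SGA6.Kvb Y →+ KY} (hX : KRR.IsModel X KX PX φX) (hY : KRR.IsModel Y KY PY φY)
    {g : KY →+ KX} (hg : KRR.IsPull f φY φX g) : g 1 = 1 := by
  obtain ⟨e⟩ := CAlgH.PicPunct.nonempty_pullback_unit f
  rw [← hY.map_one, hg _ (KvbLam28.isFinLocFree_structure), ← hX.map_one]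
  exact congrArg φX (ExtFilt28.clv_iso e)

end Groth.Agent.KBC28
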