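import Groth.Agent.KBC28.Local
import Groth.Agent.InjMod14.Kosz.Func
import Groth.Agent.ExtPowEx28.Basic
import Groth.Agent.BlowUpCoh.Regular
import Groth.Agent.KSplit28.Rank
import Groth.Prelude.Def_StMod
import Groth.Prelude.Def_KRR

/-!
# The Koszul resolution of the zero scheme of a regular cosection
-/

set_option autoImplicit false
set_option backward.isDefEq.respectTransparency false
set_option backward.isDefEq.respectTransparency.types false
set_option linter.style.haveILetI false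

universe u

open CategoryTheory CategoryTheory.Limits AlgebraicGeometry Opposite TopologicalSpace exteriorPower
open Groth.Agent.Coherent Groth.Agent.InjMod14.Kosz

namespace Groth.Agent.KBC28

section Cx

variable {X : Scheme.{u}} {E : X.Modules}

/-- Two compatible families of linear maps agreeing on decomposable sections agree. -/
theorem res_of_ιMulti {p : ℕ} {L M : X.Modules}
    (φ : ∀ U : X.affineOpens, Γ(L, U.1) ≃ₗ[Γ(X, U.1)] ↥(⋀[Γ(X, U.1)]^p Γ(E, U.1)))
    (g : ∀ U : X.affineOpens, Γ(L, U.1) →ₗ[Γ(X, U.1)] Γ(M, U.1)) (U V : X.affineOpens) (h : V.1 ≤ U.1)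
    (he : ∀ e : Fin p → Γ(E, U.1), g V (resM L h ((φ U).symm (ιMulti _ p e))) =
      resM M h (g U ((φ U).symm (ιMulti _ p e))))
    (s : Γ(L, U.1)) : g V (resM L h s) = resM M h (g U s) := by
  suffices ∀ w, g V (resM L h ((φ U).symm w)) = resM M h (g U ((φ U).symm w)) by simpa using this (φ U s)
  intro w
  have hw : w ∈ Submodule.span Γ(X, U.1) (Set.range (ιMulti Γ(X, U.1) p (M := Γ(E, U.1)))) := by
    rw [exteriorPower.ιMulti_span]; exact Submodule.mem_top
  induction hw using Submodule.span_induction with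
  | mem x hx => obtain ⟨e, rfl⟩ := hx; exact he e
  | zero => simp only [map_zero]
  | add x y _ _ hx hy => simp only [map_add, hx, hy]
  | smul r x _ hx => rw [map_smul, resM_smul, map_smul, hx, map_smul, resM_smul]

/-- The contraction on exterior powers. -/
noncomputable def dLin {R : Type u} [CommRing R] {M : Type u} [AddCommGroup M] [Module R M] (l : M →ₗ[R] R)
    (p : ℕ) : ↥(⋀[R]^(p + 1) M) →ₗ[R] ↥(⋀[R]^p M) :=
  (Disc12.Koszul.D l).restrict fun _ h => Disc12.Koszul.D_mem _ p h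

theorem dLin_ιMulti {R : Type u} [CommRing R] {M : Type u} [AddCommGroup M] [Module R M] (l : M →ₗ[R] R)
    (p : ℕ) (v : Fin (p + 1) → M) : dLin l p (ιMulti R (p + 1) v) = KoszSh.dGen l p v := by
  refine Subtype.ext ?_
  show Disc12.Koszul.D l (ιMulti R (p + 1) v).1 = _
  rw [exteriorPower.ιMulti_apply_coe, D_ιMulti]

/-- Koszul complexes of cosections of bundles exist, with finite locally free terms. -/
theorem exists_cx (hE : FlatMod.IsFinLocFree E) (s : E ⟶ Coh.structureModule X) :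
    ∃ C : KoszSh.Cx E s, ∀ p, FlatMod.IsFinLocFree (C.K.X p) := by
  choose L hL hLp using ExtPowEx28.exists_isExtPow hE
  choose φ hφ using hLp
  let φ' : ∀ (p : ℕ) (U : X.affineOpens), Γ(L p, U.1) ≃ₗ[Γ(X, U.1)] ↥(⋀[Γ(X, U.1)]^p Γ(E, U.1)) := φ
  have hφ' : ∀ (p : ℕ) (U V : X.affineOpens) (h : V.1 ≤ U.1) (e : Fin p → Γ(E, U.1)),
      resM (L p) h ((φ' p U).symm (ιMulti _ p e)) = (φ' p V).symm (ιMulti _ p fun j => resM E h (e j)) := hφ
  let g : ∀ (p : ℕ) (U : X.affineOpens), Γ(L (p + 1), U.1) →ₗ[Γ(X, U.1)] Γ(L p, U.1) := fun p U =>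
    (φ' p U).symm.toLinearMap ∘ₗ dLin (KoszSh.secForm s U.1) p ∘ₗ (φ' (p + 1) U).toLinearMap
  have hg : ∀ (p : ℕ) (U : X.affineOpens) (e : Fin (p + 1) → Γ(E, U.1)),
      g p U ((φ' (p + 1) U).symm (ιMulti _ _ e)) = (φ' p U).symm (KoszSh.dGen (KoszSh.secForm s U.1) p e) :=
    fun p U e => by
      show (φ' p U).symm (dLin _ p ((φ' (p + 1) U) ((φ' (p + 1) U).symm _))) = _
      rw [LinearEquiv.apply_symm_apply, dLin_ιMulti]
  have hd : ∀ p, ∃ d : L (p + 1) ⟶ L p, ∀ (U : X.affineOpens) (z : Γ(L (p + 1), U.1)), d.app U.1 z = g p U z := by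
    refine fun p => exists_hom_of_affine _ _ (g p) fun U V h z => res_of_ιMulti (φ' (p + 1)) (g p) U V h (fun e => ?_) z
    rw [hφ', hg, hg]
    unfold KoszSh.dGen
    simp only [map_sum, map_smul, resM_smul]
    refine Finset.sum_congr rfl fun i _ => ?_
    rw [hφ', secForm_res, map_mul, map_pow, map_neg, map_one]
  choose d hd using hd
  have hdd : ∀ p, d (p + 1) ≫ d p = 0 := fun p => hom_ext_affine _ _ fun U z => by
    show (d p).app U.1 ((d (p + 1)).app U.1 z) = 0
    rw [hd, hd]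
    show (φ' p U).symm (dLin _ p ((φ' (p + 1) U) ((φ' (p + 1) U).symm (dLin _ (p + 1) _)))) = 0
    rw [LinearEquiv.apply_symm_apply]
    exact (congrArg (φ' p U).symm (Subtype.ext (Disc12.Koszul.D_D _ _))).trans (map_zero _)
  refine ⟨{ K := ChainComplex.of L d hdd, loc := φ', loc_res := hφ, rule := fun p U e => ?_ }, hL⟩
  show (ChainComplex.of.d L d (p + 1) p).app U.1 _ = _
  rw [ChainComplex.of_d]
  exact (hd p U _).trans (hg p U e)

end Cx

theorem kreg_congr {R S : Type u} [CommRing R] [CommRing S] (e : R ≃+* S) {n : ℕ} {f : Fin n → R}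
    (h : CAlgH.KoszulRegular.KReg f) : CAlgH.KoszulRegular.KReg fun i => e (f i) := by
  letI := e.toRingHom.toAlgebra
  haveI : Module.Flat R S := RingHom.flat_algebraMap_iff.1 (RingHom.Flat.of_bijective e.bijective)
  exact h.map

variable {X Y : Scheme.{u}} [IsLocallyNoetherian Y]

/-- The values of a cosection cutting out a regular immersion are Koszul regular in any basis. -/
theorem kreg_secForm (i : X ⟶ Y) (hi : Mor2.IsRegularClosedImmersion i) {d : ℕ}
    (hci : FlatMod.IsFinLocFreeOfRank d (Omega.conormal i)) {E : Y.Modules} (t : E ⟶ Coh.structureModule Y)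
    (U : Y.affineOpens) (ht : i.ker.ideal U = Ideal.span {a : Γ(Y, U.1) | ∃ s : Γ(E, U.1), (t.app U.1) s = a})
    (b : Module.Basis (Fin d) Γ(Y, U.1) Γ(E, U.1)) :
    CAlgH.KoszulRegular.KReg (fun k => KoszSh.secForm t U.1 (b k)) := by
  haveI := hi.1
  let f : Fin d → Γ(Y, U.1) := fun k => KoszSh.secForm t U.1 (b k)
  have hspan : i.ker.ideal U = Ideal.span (Set.range f) := by
    rw [ht]
    refine le_antisymm (Ideal.span_le.2 ?_) (Ideal.span_le.2 ?_)
    · rintro a ⟨s, rfl⟩
      show KoszSh.secForm t U.1 s ∈ Ideal.span (Set.range f)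
      rw [← b.sum_repr s, map_sum]
      exact Ideal.sum_mem _ fun k _ => by
        rw [map_smul]
        exact Ideal.mul_mem_left _ _ (Ideal.subset_span ⟨k, rfl⟩)
    · rintro _ ⟨k, rfl⟩
      exact Ideal.subset_span ⟨b k, rfl⟩
  refine CAlgH.KoszulRegular.kreg_of_local f fun q hq hle => ?_
  let p : PrimeSpectrum Γ(Y, U.1) := ⟨q, hq.isPrime⟩
  have hmem : U.2.fromSpec p ∈ Y.zeroLocus (U := U.1) (i.ker.ideal U) ∩ U.1 := by
    rw [← U.2.fromSpec_image_zeroLocus]
    exact ⟨p, hspan ▸ hle, rfl⟩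
  rw [← i.ker.coe_support_inter U, Scheme.Hom.support_ker] at hmem
  obtain ⟨x, hx⟩ : U.2.fromSpec p ∈ Set.range i := i.isClosedEmbedding.isClosed_range.closure_eq.le hmem.1
  have hxU : i x ∈ U.1 := hx ▸ hmem.2
  have hp : (U.2.primeIdealOf ⟨i x, hxU⟩).asIdeal = q := by
    have h := U.2.fromSpec.isOpenEmbedding.injective ((U.2.fromSpec_primeIdealOf ⟨i x, hxU⟩).trans hx)
    rw [h]
  letI := Y.presheaf.algebra_section_stalk ⟨i x, hxU⟩
  haveI : IsLocalization q.primeCompl (Y.presheaf.stalk (i x)) := by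
    have := U.2.isLocalization_stalk ⟨i x, hxU⟩
    unfold IsLocalization.AtPrime at this
    simp only [hp] at this
    exact this
  obtain ⟨rs, hlen, hrs, hker⟩ := exists_isRegular_ker_length i hi hci x
  haveI : IsClosedImmersion (i ∣_ U.1) := IsZariskiLocalAtTarget.restrict ‹_› U.1
  let g : Fin d → Y.presheaf.stalk (i x) := fun k => algebraMap Γ(Y, U.1) _ (f k)
  have hg : Ideal.span (Set.range g) = RingHom.ker (i.stalkMap x).hom := by
    rw [CAlgH.RegImmStalk.ker_stalkMap_eq i x U.2 hxU, ← Scheme.Hom.ker_apply, hspan, Ideal.map_span,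
      ← Set.range_comp]
    rfl
  have hreg := CAlgH.KoszulH1.kreg_of_isWeaklyRegular
    (isWeaklyRegular_of_card (IsLocalRing.le_maximalIdeal (RingHom.ker_ne_top _)) hrs.toIsWeaklyRegular
      hker.symm hg hlen)
  let e := IsLocalization.algEquiv q.primeCompl (Y.presheaf.stalk (i x)) (Localization.AtPrime q)
  have := kreg_congr e.toRingEquiv hreg
  simpa [g, e] using this

/-- The augmented Koszul complex resolves the direct image of the structure sheaf. -/
theorem exists_isLFRes_koszul (i : X ⟶ Y) (hi : Mor2.IsRegularClosedImmersion i) {d : ℕ}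
    (hci : FlatMod.IsFinLocFreeOfRank d (Omega.conormal i)) {E : Y.Modules}
    (hE : FlatMod.IsFinLocFreeOfRank d E) (t : E ⟶ Coh.structureModule Y)
    (ht : ∀ U : Y.affineOpens, i.ker.ideal U = Ideal.span {a : Γ(Y, U.1) | ∃ s : Γ(E, U.1), (t.app U.1) s = a}) :
    ∃ C : KoszSh.Cx E t, ∃ π : C.K ⟶ (ChainComplex.single₀ Y.Modules).obj
        ((Scheme.Modules.pushforward i).obj (Coh.structureModule X)),
      KRR.IsLFRes ((Scheme.Modules.pushforward i).obj (Coh.structureModule X)) d C.K π := by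
  haveI := hi.1
  have hEf : FlatMod.IsFinLocFree E := VarietyLib.isFinLocFree_of_rank hE
  obtain ⟨C, hC⟩ := exists_cx hEf t
  haveI : ∀ p, Coh.IsQCoh (C.K.X p) := fun p => CAlgH3.LocFreeFactor.isQCoh_of_finLocFree (hC p)
  let z : ∀ U : Y.affineOpens, Γ(C.K.X 0, U.1) →ₗ[Γ(Y, U.1)] Γ(Coh.structureModule Y, U.1) := fun U =>
    { toFun := fun v => OmegaSh.strSect Y U.1 (exteriorPower.zeroEquiv Γ(Y, U.1) Γ(E, U.1) (C.loc 0 U v))
      map_add' := fun v w => by simp only [map_add]
      map_smul' := fun r v => by simp only [map_smul, RingHom.id_apply]; rfl }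
  obtain ⟨e, he⟩ := exists_hom_of_affine _ _ z fun U V h v => res_of_ιMulti (C.loc 0) z U V h (fun w => by
    have h0 := C.loc_res 0 U V h w
    show OmegaSh.strSect Y V.1 (exteriorPower.zeroEquiv _ _ (C.loc 0 V
      ((C.K.X 0).val.map (homOfLE h).op ((C.loc 0 U).symm (ιMulti _ 0 w))))) = _
    rw [h0, LinearEquiv.apply_symm_apply, exteriorPower.zeroEquiv_ιMulti]
    show _ = resM (Coh.structureModule Y) h (OmegaSh.strSect Y U.1 (exteriorPower.zeroEquiv _ _ (C.loc 0 U _)))
    rw [LinearEquiv.apply_symm_apply, exteriorPower.zeroEquiv_ιMulti]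
    exact (map_one (Y.presheaf.map (homOfLE h).op).hom).symm) v
  let ε : C.K.X 0 ⟶ (Scheme.Modules.pushforward i).obj (Coh.structureModule X) := e ≫ StMod.unitMap i
  have hε : ∀ (U : Y.affineOpens) (v : Γ(C.K.X 0, U.1)),
      ε.app U.1 v = (i.app U.1).hom (exteriorPower.zeroEquiv Γ(Y, U.1) Γ(E, U.1) (C.loc 0 U v)) := fun U v => by
    show (StMod.unitMap i).app U.1 (e.app U.1 v) = _
    rw [he]
    rfl
  have hd1 : ∀ (U : Y.affineOpens) (w : Fin 1 → Γ(E, U.1)),
      exteriorPower.zeroEquiv Γ(Y, U.1) Γ(E, U.1) (C.loc 0 U ((C.K.d 1 0).app U.1 ((C.loc 1 U).symm (ιMulti _ 1 w)))) =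
        KoszSh.secForm t U.1 (w 0) := fun U w => by
    rw [C.rule, LinearEquiv.apply_symm_apply, KoszSh.dGen, Fin.sum_univ_one, map_smul, exteriorPower.zeroEquiv_ιMulti,
      Fin.val_zero, pow_zero, one_mul, smul_eq_mul, mul_one]
  have hmem : ∀ (U : Y.affineOpens) (s : Γ(E, U.1)), KoszSh.secForm t U.1 s ∈ RingHom.ker (i.app U.1).hom :=
    fun U s => by
      rw [← Scheme.Hom.ker_apply, ht U]
      exact Ideal.subset_span ⟨s, rfl⟩
  have hεd : C.K.d 1 0 ≫ ε = 0 := hom_ext_loc C _ _ fun U w => by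
    show ε.app U.1 ((C.K.d 1 0).app U.1 _) = 0
    rw [hε, hd1]
    exact hmem U (w 0)
  refine ⟨C, (ChainComplex.toSingle₀Equiv _ _).symm ⟨ε, hεd⟩, hC, fun k hk =>
    KSplit28.isZero_extPow_of_rankIn hk (KSplit28.rankIn_of_rank le_rfl le_rfl hE) (C.isExtPow k), ⟨fun k => ?_⟩⟩
  cases k with
  | zero =>
    rw [ChainComplex.quasiIsoAt₀_iff, ShortComplex.quasiIso_iff_of_zeros']
    · refine (ShortComplex.exact_and_epi_g_iff_of_iso
        (S₂ := ShortComplex.mk (C.K.d 1 0) ε hεd) ?_).2 ⟨?_, ?_⟩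
      · refine ShortComplex.isoMk (Iso.refl _) (Iso.refl _) (Iso.refl _) ?_ ?_
        · dsimp; simp
        · dsimp; simp
      · refine CechRes.exact_of_local_sections _ fun W v hv y hy => ?_
        obtain ⟨U, hU, hyU, hUW⟩ := exists_isAffineOpen_mem_and_subset (x := y) (U := W) hy
        let U' : Y.affineOpens := ⟨U, hU⟩
        have hW : U ≤ W := hUW
        let c := exteriorPower.zeroEquiv Γ(Y, U) Γ(E, U) (C.loc 0 U' (resM (C.K.X 0) hW v))
        have hc : c ∈ i.ker.ideal U' := by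
          rw [Scheme.Hom.ker_apply, RingHom.mem_ker]
          exact (hε U' _).symm.trans ((app_resM ε hW v).trans ((congrArg _ hv).trans (map_zero _)))
        rw [ht U'] at hc
        have hc' : c ∈ LinearMap.range (KoszSh.secForm t U) := by
          refine (Ideal.span_le (I := LinearMap.range (KoszSh.secForm t U))).2 ?_ hc
          rintro a ⟨s, rfl⟩
          exact ⟨s, rfl⟩
        obtain ⟨s, hs⟩ := hc'
        refine ⟨U, hW, hyU, (C.loc 1 U').symm (ιMulti _ 1 fun _ => s), ?_⟩
        refine (C.loc 0 U').injective ((exteriorPower.zeroEquiv Γ(Y, U) Γ(E, U)).injective ?_)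
        exact (hd1 U' _).trans hs
      · refine Coherent.epi_of_locally_surjective _ fun W a y hy => ?_
        obtain ⟨U, hU, hyU, hUW⟩ := exists_isAffineOpen_mem_and_subset (x := y) (U := W) hy
        let U' : Y.affineOpens := ⟨U, hU⟩
        haveI : IsClosedImmersion (i ∣_ U) := IsZariskiLocalAtTarget.restrict ‹_› U
        obtain ⟨r, hr⟩ := CAlgH.RegImmStalk.app_surjective_of_restrict i hU
          (resM ((Scheme.Modules.pushforward i).obj (Coh.structureModule X)) hUW a)
        refine ⟨U, hUW, hyU, (C.loc 0 U').symm ((exteriorPower.zeroEquiv Γ(Y, U) Γ(E, U)).symm r), ?_⟩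
        show ε.app U _ = _
        rw [hε U', LinearEquiv.apply_symm_apply, LinearEquiv.apply_symm_apply]
        exact hr
    all_goals first | rfl | exact C.K.shape 0 0 (by simp)
  | succ k =>
    rw [quasiIsoAt_iff_exactAt' _ _ (ChainComplex.exactAt_succ_single_obj _ _),
      C.K.exactAt_iff' (k + 1 + 1) (k + 1) k (by simp) (by simp)]
    refine CechRes.exact_of_local_sections _ fun W v hv y hy => ?_
    obtain ⟨A, hyA, ⟨eA⟩⟩ := hE y
    obtain ⟨U, hU, hyU, hUW⟩ := exists_isAffineOpen_mem_and_subset (x := y) (U := W ⊓ A) ⟨hy, hyA⟩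
    have hW : U ≤ W := fun z hz => (hUW hz).1
    have hA : U ≤ A := fun z hz => (hUW hz).2
    let U' : Y.affineOpens := ⟨U, hU⟩
    obtain ⟨b⟩ := Props12.exists_basis_sections eA hA
    have hreg := kreg_secForm i hi hci t U' (ht U') b
    have hv' : dHom C k U (resM (C.K.X (k + 1)) hW v) = 0 :=
      (app_resM (C.K.d (k + 1) k) hW v).trans ((congrArg _ hv).trans (map_zero _))
    obtain ⟨w, hw⟩ := (hreg k (locEquiv C (U := U') b (k + 1) (resM (C.K.X (k + 1)) hW v))).1 (by
      rw [← dHom_locEquiv, hv', map_zero])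
    have hfin : dHom C (k + 1) U'.1 ((locEquiv C (U := U') b (k + 1 + 1)).symm w) = resM (C.K.X (k + 1)) hW v := by
      apply (locEquiv C (U := U') b (k + 1)).injective
      rw [dHom_locEquiv C (U := U') b (k + 1), LinearEquiv.apply_symm_apply]
      exact hw
    exact ⟨U, hW, hyU, (locEquiv C (U := U') b (k + 1 + 1)).symm w, hfin⟩

end Groth.Agent.KBC28
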